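import Groth.Agent.ModDesc.Limit

/-!
# A closed subscheme of a limit is the limit of its images
-/

set_option autoImplicit false
set_option backward.isDefEq.respectTransparency false
set_option linter.style.haveILetI false

universe u

open CategoryTheory CategoryTheory.Limits AlgebraicGeometry

noncomputable section

namespace Groth.Agent.LimImage

theorem appLE_comp_eq {A B C : Scheme.{u}} (p : A ⟶ B) (q : B ⟶ C) (r : A ⟶ C) (w : p ≫ q = r) {V : C.Opens}
    {U : B.Opens} {W : A.Opens} (e₁ : U ≤ q ⁻¹ᵁ V) (e₂ : W ≤ p ⁻¹ᵁ U) (e₃ : W ≤ r ⁻¹ᵁ V) (t : Γ(C, V)) :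
    r.appLE V W e₃ t = p.appLE U W e₂ (q.appLE V U e₁ t) := by
  subst w
  exact (ConcreteCategory.congr_hom (Scheme.Hom.appLE_comp_appLE p q V U W e₁ e₂) t).symm

theorem appLE_eq_zero {A B : Scheme.{u}} (p : A ⟶ B) {U : B.Opens} {W : A.Opens} (e : W ≤ p ⁻¹ᵁ U) (a : Γ(B, U))
    (ha : p.app U a = 0) : p.appLE U W e a = 0 := by
  rw [Scheme.Hom.appLE, CommRingCat.comp_apply]
  exact (congrArg _ ha).trans (map_zero _)

/-- **The images in the stages of a closed subscheme of a limit have it as limit.** -/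
theorem exists_image_system {K : Type u} [SmallCategory K] [IsCofiltered K] (D : K ⥤ Scheme.{u}) (c : Cone D)
    (hc : IsLimit c) [∀ {i j : K} (f : i ⟶ j), IsAffineHom (D.map f)] {X : Scheme.{u}} (g : X ⟶ c.pt)
    [IsClosedImmersion g] :
    ∃ (E : K ⥤ Scheme.{u}) (τ : E ⟶ D) (cE : Cone E) (_ : IsLimit cE) (e : cE.pt ≅ X),
      (∀ k, IsClosedImmersion (τ.app k)) ∧ (∀ {i j : K} (f : i ⟶ j), IsAffineHom (E.map f)) ∧
      ∀ k, cE.π.app k ≫ τ.app k = e.hom ≫ g ≫ c.π.app k := by
  haveI : ∀ k, IsAffineHom (c.π.app k) := fun k => isAffineHom_π_app D c hc k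
  let h : ∀ k, X ⟶ D.obj k := fun k => g ≫ c.π.app k
  have hh : ∀ {k l : K} (a : k ⟶ l), h k ≫ D.map a = h l := fun a => by rw [Category.assoc, c.w a]
  haveI : ∀ k, QuasiCompact (h k) := fun k => inferInstanceAs (QuasiCompact (g ≫ c.π.app k))
  have H : ∀ {k l : K} (a : k ⟶ l), (h l).imageι.ker ≤ ((h k).imageι ≫ D.map a).ker := fun {k l} a => by
    refine (Scheme.IdealSheafData.ker_subschemeι _).trans_le ?_
    rw [Scheme.Hom.ker_comp (h k).imageι (D.map a), Scheme.IdealSheafData.ker_subschemeι (h k).ker,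
      ← Scheme.Hom.ker_comp (h k) (D.map a), hh]
  let m : ∀ {k l : K} (a : k ⟶ l), (h k).image ⟶ (h l).image := fun a =>
    IsClosedImmersion.lift _ _ (H a)
  have hm : ∀ {k l : K} (a : k ⟶ l), m a ≫ (h l).imageι = (h k).imageι ≫ D.map a := fun a =>
    IsClosedImmersion.lift_fac _ _ _
  let E : K ⥤ Scheme.{u} :=
    { obj := fun k => (h k).image
      map := fun a => m a
      map_id := fun k => by rw [← cancel_mono (h k).imageι, hm, D.map_id, Category.comp_id, Category.id_comp]
      map_comp := fun {k l n} a b => by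
        rw [← cancel_mono (h n).imageι, hm, Category.assoc, hm, ← Category.assoc, hm, Category.assoc, D.map_comp] }
  let τ : E ⟶ D := { app := fun k => (h k).imageι, naturality := fun k l a => hm a }
  haveI : ∀ k, IsClosedImmersion (τ.app k) := fun k => inferInstanceAs (IsClosedImmersion (h k).imageι)
  let cE : Cone E :=
    { pt := X
      π := { app := fun k => (h k).toImage
             naturality := fun k l a => by
               change 𝟙 X ≫ (h l).toImage = (h k).toImage ≫ m a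
               rw [← cancel_mono (h l).imageι, Category.assoc, Category.assoc, hm, Scheme.Hom.toImage_imageι,
                 Category.id_comp, Scheme.Hom.toImage_imageι_assoc, hh] } }
  have hlift : ∀ s : Cone E, g.ker ≤ (hc.lift ((Cone.postcompose τ).obj s)).ker := fun s => by
    let t := hc.lift ((Cone.postcompose τ).obj s)
    have ht : ∀ k, t ≫ c.π.app k = s.π.app k ≫ (h k).imageι := fun k => hc.fac _ k
    obtain ⟨j⟩ := IsCofiltered.nonempty (C := K)
    have hV0 : ∀ V : (D.obj j).affineOpens,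
        g.ker.ideal ⟨c.π.app j ⁻¹ᵁ V.1, V.2.preimage _⟩ ≤ RingHom.ker (t.app (c.π.app j ⁻¹ᵁ V.1)).hom := by
      intro V a ha
      obtain ⟨k, b, x, e, rfl⟩ := ModDesc.exists_appLE_eq D c hc V.2 a
      rw [Scheme.Hom.ker_apply, RingHom.mem_ker] at ha
      rw [RingHom.mem_ker]
      have hVk : IsAffineOpen (D.map b ⁻¹ᵁ V.1) := V.2.preimage _
      have hsame : c.π.app k ⁻¹ᵁ (D.map b ⁻¹ᵁ V.1) ≤ c.π.app j ⁻¹ᵁ V.1 := (congr($(c.w b) ⁻¹ᵁ V.1)).le
      have hker : (h k).imageι.app (D.map b ⁻¹ᵁ V.1) x = 0 := by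
        have h1 : x ∈ (h k).ker.ideal ⟨_, hVk⟩ := by
          rw [Scheme.Hom.ker_apply, RingHom.mem_ker, Scheme.Hom.app_eq_appLE]
          exact (appLE_comp_eq g (c.π.app k) (h k) rfl e (g.preimage_mono hsame) le_rfl x).trans
            (appLE_eq_zero g _ _ ha)
        rwa [← (h k).ker.ker_subschemeι_app, RingHom.mem_ker] at h1
      have e2 : t ⁻¹ᵁ (c.π.app j ⁻¹ᵁ V.1) ≤ s.π.app k ⁻¹ᵁ ((h k).imageι ⁻¹ᵁ (D.map b ⁻¹ᵁ V.1)) := by
        change _ ≤ (s.π.app k ≫ (h k).imageι) ⁻¹ᵁ (D.map b ⁻¹ᵁ V.1)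
        rw [← ht]
        exact t.preimage_mono e
      rw [Scheme.Hom.app_eq_appLE]
      refine (appLE_comp_eq t (c.π.app k) _ rfl e le_rfl (t.preimage_mono e) x).symm.trans ?_
      refine (appLE_comp_eq (s.π.app k) (h k).imageι _ (ht k).symm le_rfl e2 _ x).trans ?_
      rw [← Scheme.Hom.app_eq_appLE, hker, map_zero]
    refine Scheme.IdealSheafData.le_ofIdeals_iff.2 fun U a ha => ?_
    rw [RingHom.mem_ker]
    refine TopCat.Presheaf.IsSheaf.section_ext s.pt.sheaf.2 fun x hx => ?_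
    obtain ⟨V, hV, hxV, -⟩ := exists_isAffineOpen_mem_and_subset (X := D.obj j) (x := c.π.app j (t x)) (U := ⊤) trivial
    obtain ⟨W, hW, hxW, hle⟩ := exists_isAffineOpen_mem_and_subset (X := c.pt) (x := t x)
      (U := U.1 ⊓ c.π.app j ⁻¹ᵁ V) ⟨hx, hxV⟩
    refine ⟨t ⁻¹ᵁ W, t.preimage_mono (hle.trans inf_le_left), hxW, ?_⟩
    have h1 : c.pt.presheaf.map (homOfLE (hle.trans inf_le_left : W ≤ U.1)).op a ∈ g.ker.ideal ⟨W, hW⟩ := by
      rw [← g.ker.map_ideal (show (⟨W, hW⟩ : c.pt.affineOpens) ≤ U from hle.trans inf_le_left)]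
      exact Ideal.mem_map_of_mem _ ha
    have h2 : g.ker.ideal ⟨W, hW⟩ ≤ RingHom.ker (t.app W).hom := by
      rw [← g.ker.map_ideal (show (⟨W, hW⟩ : c.pt.affineOpens) ≤ ⟨c.π.app j ⁻¹ᵁ V, hV.preimage _⟩ from hle.trans inf_le_right),
        Ideal.map_le_iff_le_comap]
      intro b hb
      have hb' : t.app _ b = 0 := hV0 ⟨V, hV⟩ hb
      rw [Ideal.mem_comap, RingHom.mem_ker]
      refine (ConcreteCategory.congr_hom (t.naturality (homOfLE _).op) b).trans ?_
      change s.pt.presheaf.map _ (t.app _ b) = 0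
      rw [hb', map_zero]
    change s.pt.presheaf.map _ (t.app U.1 a) = s.pt.presheaf.map _ 0
    rw [map_zero]
    exact (ConcreteCategory.congr_hom (t.naturality (homOfLE _).op) a).symm.trans (h2 h1)
  let hcE : IsLimit cE :=
    { lift := fun s => IsClosedImmersion.lift g _ (hlift s)
      fac := fun s k => by
        change _ ≫ (h k).toImage = _
        rw [← cancel_mono (h k).imageι, Category.assoc, Scheme.Hom.toImage_imageι, ← Category.assoc,
          IsClosedImmersion.lift_fac]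
        exact hc.fac _ k
      uniq := fun s m' hm' => by
        rw [← cancel_mono g, IsClosedImmersion.lift_fac]
        refine hc.hom_ext fun k => ?_
        rw [hc.fac, Category.assoc]
        refine (congrArg (m' ≫ ·) ((h k).toImage_imageι).symm).trans ?_
        rw [← Category.assoc]
        exact congrArg (· ≫ (h k).imageι) (hm' k) }
  refine ⟨E, τ, cE, hcE, Iso.refl X, inferInstance, fun {k l} a => ?_, fun k => ?_⟩
  · haveI : IsAffineHom (m a ≫ (h l).imageι) := by rw [hm]; infer_instance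
    exact IsAffineHom.of_comp (m a) (h l).imageι
  · exact (h k).toImage_imageι.trans (Category.id_comp _).symm

end Groth.Agent.LimImage
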